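import Cfsg.Agent.H623.BR.PolarC

/-!
# S4891, POLAR THEOREM (helper623): groups acting by linear maps
-/

set_option autoImplicit false
set_option linter.unusedSectionVars false

open Module Matrix Cfsg
open Cfsg.Agent.H2.Pol

namespace Cfsg.Agent.H623.BR

variable {F V : Type*} [Field F] [Finite F] [AddCommGroup V] [Module F V] [FiniteDimensional F V] {Φ : Pol F V}

/-- `G` acts on the sets `Φ.X j` through linear maps preserving orthogonality -/
theorem Act.of_linear {G : Type*} [Group G] [∀ j, MulAction G (Φ.X j)]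
    (h : ∀ g : G, ∃ f : V ≃ₗ[F] V, (∀ x y, Φ.L (f y) (f x) = 0 ↔ Φ.L y x = 0) ∧
      ∀ (j : ℕ) (U : Φ.X j), (g • U).1 = U.1.map (f : V →ₗ[F] V)) : Act Φ G := by
  refine ⟨fun g => ?_⟩
  obtain ⟨f, h1, h2⟩ := h g
  refine ⟨Submodule.orderIsoMapComap f, fun U => ?_, fun U W => ?_, fun j U => ?_⟩
  · exact LinearEquiv.finrank_map_eq f U
  · constructor
    · intro h3 x hx y hy
      exact (h1 x y).1 (h3 (f x) (Submodule.mem_map_of_mem hx) (f y) (Submodule.mem_map_of_mem hy))
    · rintro h3 _ ⟨x, hx, rfl⟩ _ ⟨y, hy, rfl⟩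
      exact (h1 x y).2 (h3 x hx y hy)
  · exact h2 j U

end Cfsg.Agent.H623.BR
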