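import Cfsg.Agent.H623.BR.PolarA
import Cfsg.Agent.H2.Pol.Mat

/-!
# S4891, POLAR THEOREM (helper623): the eigenvalues of `adj` on the primitive functions

From the matrix identities of helper2 (`exists_cst`, `adj_inc`):
* `chain` : for `v` primitive with `adj v = a v`, the vectors `up j r v` are eigenvectors of `adj`, and
  `incᵀ (up j (r+1) v) = f r • up j r v`, with `f r` depending on `a`, `j` only (`f r = A r - B r * a`, `A r`, `B r` rational,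
  `B r > 0`);
* `gram_sc` : `upᵀ * up` is a scalar on the eigenspaces (the hypothesis `hφ` of `rational_of`);
* `eig_rat` : the eigenvalues are rational (the hypothesis `hrat` of `rational_of`).
-/

set_option autoImplicit false
set_option linter.unusedSectionVars false

open Module Matrix
open Cfsg.Agent.H2.Pol

namespace Cfsg.Agent.H623.BR

variable {F V : Type*} [Field F] [Finite F] [AddCommGroup V] [Module F V] [FiniteDimensional F V] {Φ : Pol F V}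

theorem adj_inc_mulVec {cc : ℕ → ℕ} (hcc : Φ.Reg cc) (k : ℕ) (w : Φ.X k → ℂ) {α : ℂ}
    (hw : Φ.adj ℂ k *ᵥ w = α • w) : Φ.adj ℂ (k + 1) *ᵥ (Φ.inc ℂ k *ᵥ w) =
      (α / (Nat.card F : ℂ) + ((cc k : ℂ) - 1 - (Nat.card F : ℂ) * cc (k + 1))) • (Φ.inc ℂ k *ᵥ w) := by
  have hq : (Nat.card F : ℂ) ≠ 0 := Nat.cast_ne_zero.2 Nat.card_pos.ne'
  have h1 := congrArg (fun M => M *ᵥ w) (adj_inc hcc ℂ k)
  simp only [Matrix.smul_mulVec, Matrix.add_mulVec, ← Matrix.mulVec_mulVec] at h1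
  rw [hw, Matrix.mulVec_smul, ← add_smul] at h1
  have h2 := congrArg (fun x => (Nat.card F : ℂ)⁻¹ • x) h1
  simp only [smul_smul] at h2
  rw [inv_mul_cancel₀ hq, one_smul] at h2
  rw [h2]
  congr 1
  field_simp

/-- the data of the chain of `v` -/
theorem chain {cc : ℕ → ℕ} (hcc : Φ.Reg cc) (j : ℕ) : ∃ A B C D : ℕ → ℚ, (∀ r, 0 < B r) ∧
    ∀ (a : ℂ) (v : Φ.X j → ℂ), v ∈ Φ.Prim ℂ j → Φ.adj ℂ j *ᵥ v = a • v → ∀ r,
      Φ.adj ℂ (j + r) *ᵥ (up Φ j r *ᵥ v) = ((C r : ℂ) + (D r : ℂ) * a) • (up Φ j r *ᵥ v) ∧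
      (Φ.inc ℂ (j + r))ᵀ *ᵥ (up Φ j (r + 1) *ᵥ v) = ((A r : ℂ) - (B r : ℂ) * a) • (up Φ j r *ᵥ v) := by
  have hq : (Nat.card F : ℚ) ≠ 0 := Nat.cast_ne_zero.2 Nat.card_pos.ne'
  choose c hc using fun k => exists_cst hcc ℂ k
  -- the recursion
  let CD : ℕ → ℚ × ℚ := fun r => Nat.rec (motive := fun _ => ℚ × ℚ) (0, 1) (fun s x =>
    (x.1 / Nat.card F + ((cc (j + s) : ℚ) - 1 - (Nat.card F : ℚ) * cc (j + s + 1)), x.2 / Nat.card F)) r
  have hCD0 : CD 0 = (0, 1) := rfl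
  have hCDs : ∀ s, CD (s + 1) = ((CD s).1 / Nat.card F + ((cc (j + s) : ℚ) - 1 - (Nat.card F : ℚ) * cc (j + s + 1)),
    (CD s).2 / Nat.card F) := fun _ => rfl
  have hDpos : ∀ s, 0 < (CD s).2 := by
    intro s
    induction s with
    | zero => rw [hCD0]; exact one_pos
    | succ s ih =>
      rw [hCDs]
      have : (0 : ℚ) < Nat.card F := by exact_mod_cast Nat.card_pos
      exact div_pos ih this
  let AB : ℕ → ℚ × ℚ := fun r => Nat.rec (motive := fun _ => ℚ × ℚ) ((c j : ℚ), 1) (fun s x =>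
    (x.1 + c (j + (s + 1)) - (CD (s + 1)).1, x.2 + (CD (s + 1)).2)) r
  have hAB0 : AB 0 = ((c j : ℚ), 1) := rfl
  have hABs : ∀ s, AB (s + 1) = ((AB s).1 + c (j + (s + 1)) - (CD (s + 1)).1, (AB s).2 + (CD (s + 1)).2) := fun _ => rfl
  refine ⟨fun r => (AB r).1, fun r => (AB r).2, fun r => (CD r).1, fun r => (CD r).2, ?_, ?_⟩
  · intro r
    induction r with
    | zero => simp only [hAB0]; exact one_pos
    | succ s ih =>
      simp only [hABs] at ih ⊢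
      have := hDpos (s + 1)
      exact add_pos ih this
  intro a v hv hav
  have h1 : ∀ r, Φ.adj ℂ (j + r) *ᵥ (up Φ j r *ᵥ v) = (((CD r).1 : ℂ) + ((CD r).2 : ℂ) * a) • (up Φ j r *ᵥ v) := by
    intro r
    induction r with
    | zero =>
      show Φ.adj ℂ j *ᵥ ((1 : Matrix (Φ.X j) (Φ.X j) ℂ) *ᵥ v) = _ • ((1 : Matrix (Φ.X j) (Φ.X j) ℂ) *ᵥ v)
      rw [Matrix.one_mulVec, hav, hCD0]
      simp
    | succ s ih =>
      rw [up_succ, ← Matrix.mulVec_mulVec]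
      have h2 := adj_inc_mulVec hcc (j + s) _ ih
      refine h2.trans ?_
      congr 1
      rw [hCDs]
      push_cast
      ring
  refine fun r => ⟨h1 r, ?_⟩
  induction r with
  | zero =>
    rw [up_succ]
    have h2 : up Φ j 0 *ᵥ v = v := Matrix.one_mulVec v
    rw [← Matrix.mulVec_mulVec, h2, Matrix.mulVec_mulVec]
    show ((Φ.inc ℂ j)ᵀ * Φ.inc ℂ j) *ᵥ v = _
    rw [hc, Matrix.sub_mulVec, Matrix.add_mulVec, hav, Matrix.smul_mulVec, Matrix.one_mulVec]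
    have h3 : UD Φ ℂ j *ᵥ v = 0 := by
      cases j with
      | zero => exact Matrix.zero_mulVec v
      | succ i =>
        show (Φ.inc ℂ i * (Φ.inc ℂ i)ᵀ) *ᵥ v = 0
        have h4 : (Φ.inc ℂ i)ᵀ *ᵥ v = 0 := hv
        rw [← Matrix.mulVec_mulVec, h4, Matrix.mulVec_zero]
    rw [h3, zero_add, ← sub_smul]
    simp only [hAB0]
    push_cast
    ring_nf
  | succ s ih =>
    rw [up_succ, ← Matrix.mulVec_mulVec, Matrix.mulVec_mulVec]
    show ((Φ.inc ℂ (j + s + 1))ᵀ * Φ.inc ℂ (j + s + 1)) *ᵥ (up Φ j (s + 1) *ᵥ v) = _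
    have h5 : Φ.adj ℂ (j + s + 1) *ᵥ (up Φ j (s + 1) *ᵥ v) = _ := h1 (s + 1)
    rw [hc, Matrix.sub_mulVec, Matrix.add_mulVec, h5, Matrix.smul_mulVec, Matrix.one_mulVec]
    have h3 : UD Φ ℂ (j + s + 1) *ᵥ (up Φ j (s + 1) *ᵥ v) = (((AB s).1 : ℂ) - ((AB s).2 : ℂ) * a) • (up Φ j (s + 1) *ᵥ v) := by
      show (Φ.inc ℂ (j + s) * (Φ.inc ℂ (j + s))ᵀ) *ᵥ (up Φ j (s + 1) *ᵥ v) = _
      rw [← Matrix.mulVec_mulVec, ih, Matrix.mulVec_smul, Matrix.mulVec_mulVec, ← up_succ]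
    rw [h3, ← add_smul, ← sub_smul]
    congr 1
    simp only [hABs]
    push_cast
    have h6 : c (j + s + 1) = c (j + (s + 1)) := rfl
    rw [h6]
    ring

/-- **the Gram matrices are scalars on the eigenspaces** -/
theorem gram_sc {cc : ℕ → ℕ} (hcc : Φ.Reg cc) (j : ℕ) (a : ℂ) (i : ℕ) : (up Φ j i)ᵀ * up Φ j i ∈ Sc Φ j a := by
  obtain ⟨A, B, C, D, -, h⟩ := chain hcc j
  refine ⟨∏ r ∈ Finset.range i, ((A r : ℂ) - (B r : ℂ) * a), fun v hv hav => ?_⟩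
  induction i with
  | zero =>
    show ((1 : Matrix (Φ.X j) (Φ.X j) ℂ)ᵀ * (1 : Matrix (Φ.X j) (Φ.X j) ℂ)) *ᵥ v = _
    rw [Matrix.transpose_one, Matrix.mul_one, Matrix.one_mulVec, Finset.range_zero, Finset.prod_empty, one_smul]
  | succ i ih =>
    have h1 := (h a v hv hav i).2
    have h2 : ((up Φ j (i + 1))ᵀ * up Φ j (i + 1)) *ᵥ v = (up Φ j i)ᵀ *ᵥ ((Φ.inc ℂ (j + i))ᵀ *ᵥ (up Φ j (i + 1) *ᵥ v)) := by
      rw [Matrix.mulVec_mulVec, Matrix.mulVec_mulVec]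
      congr 2
      show (Φ.inc ℂ (j + i) * up Φ j i)ᵀ = _
      rw [Matrix.transpose_mul]
    rw [h2, h1, Matrix.mulVec_smul, Matrix.mulVec_mulVec, ih, smul_smul, Finset.prod_range_succ, mul_comm]

theorem X_isEmpty {k : ℕ} (h : finrank F V < k) : IsEmpty (Φ.X k) :=
  ⟨fun U => absurd (Submodule.finrank_le U.1) (by rw [U.2.2]; omega)⟩

/-- **the eigenvalues of `adj` on the primitive functions are rational** -/
theorem eig_rat {cc : ℕ → ℕ} (hcc : Φ.Reg cc) (j : ℕ) (a : ℂ) (v : Φ.X j → ℂ) (hv : v ∈ Φ.Prim ℂ j) (hv0 : v ≠ 0)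
    (hav : Φ.adj ℂ j *ᵥ v = a • v) : ∃ r : ℚ, a = r := by
  classical
  obtain ⟨A, B, C, D, hB, h⟩ := chain hcc j
  have hex : ∃ r, up Φ j r *ᵥ v = 0 := by
    refine ⟨finrank F V + 1, ?_⟩
    have : IsEmpty (Φ.X (j + (finrank F V + 1))) := X_isEmpty (by omega)
    exact Subsingleton.elim _ _
  obtain ⟨r, hr⟩ : ∃ r, Nat.find hex = r + 1 := by
    apply Nat.exists_eq_succ_of_ne_zero
    intro h0
    have h1 := Nat.find_spec hex
    rw [h0] at h1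
    exact hv0 ((Matrix.one_mulVec v).symm.trans h1)
  have h1 : up Φ j (r + 1) *ᵥ v = 0 := hr ▸ Nat.find_spec hex
  have h2 : up Φ j r *ᵥ v ≠ 0 := Nat.find_min hex (by omega)
  have h3 := (h a v hv hav r).2
  rw [h1, Matrix.mulVec_zero] at h3
  have h4 : (A r : ℂ) - (B r : ℂ) * a = 0 := (smul_eq_zero.1 h3.symm).resolve_right h2
  have h5 : (B r : ℂ) ≠ 0 := by exact_mod_cast (hB r).ne'
  refine ⟨A r / B r, ?_⟩
  push_cast
  rw [eq_div_iff h5]
  linear_combination -h4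

end Cfsg.Agent.H623.BR
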