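import Cfsg.Agent.H623.BR.PolarC
import Cfsg.Agent.H623.BR.PolarD
import Cfsg.Agent.H623.BR.PolarE
import Cfsg.Agent.H145.BR.CountDefs

/-!
# S4891: THE POLAR THEOREM (helper623, helper2)

`Φ : Pol F V` a polar structure (symplectic, unitary, orthogonal; `H2/Pol/Defs`), `G` a finite group acting on the sets
`Φ.X j` of totally singular subspaces (`Act Φ G`, `PolarA`; from a linear or semilinear action: `Act.of_linear`, `PolarD`),
`Reg Φ cc` : every `U` in `X l` lies in exactly `cc l` elements of `X (l+1)` (`exists_reg` : from transitivity on all `X l`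
of some group).  Suppose `G` is transitive on the pairs of `X j` of each type `typ` for all `1 ≤ j ≤ k`.

* `polar_rational` : **every irreducible constituent of the permutation character on `Φ.X k` is rational valued**;
* `polar_integral` : it has values in `ℤ`;
* `polar_permC` : the same for `permC G (Φ.X k)`, on both sides of `classInner`.
-/

set_option autoImplicit false

open Module Matrix Cfsg
open Cfsg.Agent.H2.Pol
open Cfsg.Agent.Characters.Core

namespace Cfsg.Agent.H623.BR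

variable {F V : Type*} [Field F] [Finite F] [AddCommGroup V] [Module F V] [FiniteDimensional F V] {Φ : Pol F V}

/-- regularity from transitivity -/
theorem exists_reg {H : Type*} [Group H] [∀ j, MulAction H (Φ.X j)] (hA : Act Φ H)
    (htr : ∀ (j : ℕ) (U W : Φ.X j), ∃ h : H, h • U = W) : ∃ cc : ℕ → ℕ, Φ.Reg cc := by
  classical
  refine ⟨fun k => if h : Nonempty (Φ.X k) then Nat.card {W : Φ.X (k + 1) // (Classical.choice h).1 ≤ W.1} else 0,
    fun k U => ?_⟩
  have hne : Nonempty (Φ.X k) := ⟨U⟩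
  obtain ⟨h, hh⟩ := htr k U (Classical.choice hne)
  have e1 : (if h : Nonempty (Φ.X k) then Nat.card {W : Φ.X (k + 1) // (Classical.choice h).1 ≤ W.1} else 0) =
      Nat.card {W : Φ.X (k + 1) // (Classical.choice hne).1 ≤ W.1} := dif_pos hne
  refine Eq.trans ?_ e1.symm
  rw [← hh]
  refine Nat.card_congr ((MulAction.toPerm h).subtypeEquiv fun W => ?_)
  exact (hA.le_iff h U W).symm

theorem X_zero_eq (U W : Φ.X 0) : U = W := by
  apply Subtype.ext
  have h1 : U.1 = ⊥ := Submodule.finrank_eq_zero.1 U.2.2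
  have h2 : W.1 = ⊥ := Submodule.finrank_eq_zero.1 W.2.2
  rw [h1, h2]

variable {G : Type*} [Group G] [Fintype G] [∀ j, MulAction G (Φ.X j)]

/-- **THE POLAR THEOREM** -/
theorem polar_rational {cc : ℕ → ℕ} (hcc : Φ.Reg cc) (hA : Act Φ G) {k : ℕ}
    (htr : ∀ j, 1 ≤ j → j ≤ k → ∀ U U2 W W2 : Φ.X j, typ Φ U.1 U2.1 = typ Φ W.1 W2.1 →
      ∃ g : G, g • U = W ∧ g • U2 = W2)
    {χ : G → ℂ} (hχ : IsIrrCharacter G χ)
    (h : classInner (fun g : G => (Nat.card (MulAction.fixedBy (Φ.X k) g) : ℂ)) χ ≠ 0) (g : G) : ∃ r : ℚ, χ g = r := by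
  refine rational_of hA (k := k) ?_ (fun j a v hv hv0 hav => eig_rat hcc j a v hv hv0 hav)
    (fun j a i => gram_sc hcc j a i) ⟨χ, hχ⟩ h g
  intro j hj U U2 W W2 hty
  rcases Nat.eq_zero_or_pos j with rfl | hj0
  · exact ⟨1, X_zero_eq _ _, X_zero_eq _ _⟩
  · exact htr j hj0 hj U U2 W W2 hty

/-- **THE POLAR THEOREM**, integral values -/
theorem polar_integral {cc : ℕ → ℕ} (hcc : Φ.Reg cc) (hA : Act Φ G) {k : ℕ}
    (htr : ∀ j, 1 ≤ j → j ≤ k → ∀ U U2 W W2 : Φ.X j, typ Φ U.1 U2.1 = typ Φ W.1 W2.1 →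
      ∃ g : G, g • U = W ∧ g • U2 = W2)
    {χ : G → ℂ} (hχ : IsIrrCharacter G χ)
    (h : classInner (fun g : G => (Nat.card (MulAction.fixedBy (Φ.X k) g) : ℂ)) χ ≠ 0) (g : G) : ∃ n : ℤ, χ g = n := by
  obtain ⟨r, hr⟩ := polar_rational hcc hA htr hχ h g
  have h1 : IsIntegral ℤ (χ g) := Cfsg.Agent.Characters.GaloisBasic.isIntegral_apply (isIrr_isCharacter hχ) g
  rw [hr] at h1
  have h2 : IsIntegral ℤ r := by
    have h3 : IsIntegral ℤ (algebraMap ℚ ℂ r) := by
      rwa [eq_ratCast]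
    exact (isIntegral_algebraMap_iff (algebraMap ℚ ℂ).injective).1 h3
  obtain ⟨n, hn⟩ := IsIntegrallyClosed.isIntegral_iff.1 h2
  refine ⟨n, ?_⟩
  rw [hr, ← hn]
  simp

/-- **THE POLAR THEOREM** for `permC` -/
theorem polar_permC {cc : ℕ → ℕ} (hcc : Φ.Reg cc) (hA : Act Φ G) {k : ℕ}
    (htr : ∀ j, 1 ≤ j → j ≤ k → ∀ U U2 W W2 : Φ.X j, typ Φ U.1 U2.1 = typ Φ W.1 W2.1 →
      ∃ g : G, g • U = W ∧ g • U2 = W2)
    {χ : G → ℂ} (hχ : IsIrrCharacter G χ)
    (h : classInner (H145.BR.permC G (Φ.X k)) χ ≠ 0 ∨ classInner χ (H145.BR.permC G (Φ.X k)) ≠ 0) (g : G) :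
    ∃ n : ℤ, χ g = n := by
  refine polar_integral hcc hA htr hχ ?_ g
  rcases h with h | h
  · exact h
  · intro h0
    apply h
    have h1 := classInner_conj_symm (H145.BR.permC G (Φ.X k)) χ
    have h2 : classInner (H145.BR.permC G (Φ.X k)) χ = 0 := h0
    rw [h2, map_zero] at h1
    exact h1.symm

end Cfsg.Agent.H623.BR
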