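import Cfsg.Agent.H2.Pol.Defs

/-!
# S4891, POLAR THEOREM, part (3) (helper623): invariant matrices on the primitive functions

* `typ Φ A B` : the type `(dim (A ⊓ B), dim (A ⊓ B^⊥))` of a pair;
* `Act Φ G` : `G` acts on the sets `Φ.X j` through automorphisms of the lattice of subspaces preserving `Φ.Orth`;
* `GInv` : invariant matrices;
* `up Φ k j` : the product of `j` incidence matrices;
* `scalar` : if `G` is transitive on the pairs of `Φ.X k` of each type, every invariant matrix acts as a scalar on the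
  eigenspaces of `adj` on `Prim`.
-/

set_option autoImplicit false
set_option linter.unusedSectionVars false

open Module Matrix
open Cfsg.Agent.H2.Pol

namespace Cfsg.Agent.H623.BR

variable {F V : Type*} [Field F] [Finite F] [AddCommGroup V] [Module F V] [FiniteDimensional F V]

/-! ### dimensions -/

theorem finrank_sup_span {U : Submodule F V} {x : V} (hx : x ∉ U) :
    finrank F ↥(U ⊔ Submodule.span F {x}) = finrank F ↥U + 1 := by
  have h1 := Submodule.finrank_sup_add_finrank_inf_eq U (Submodule.span F {x})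
  have hx0 : x ≠ 0 := fun h => hx (h ▸ U.zero_mem)
  rw [finrank_span_singleton hx0] at h1
  have h2 : U ⊓ Submodule.span F {x} = ⊥ := by
    rw [eq_bot_iff]
    rintro y ⟨hy, hy'⟩
    obtain ⟨c, rfl⟩ := Submodule.mem_span_singleton.1 hy'
    by_cases hc : c = 0
    · rw [hc, zero_smul]
      exact Submodule.zero_mem _
    · exact absurd ((U.smul_mem_iff hc).1 hy) hx
  rw [h2, finrank_bot] at h1
  omega

theorem exists_between {U W : Submodule F V} (hUW : U ≤ W) (n : ℕ) (h1 : finrank F ↥U ≤ n) (h2 : n ≤ finrank F ↥W) :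
    ∃ D : Submodule F V, U ≤ D ∧ D ≤ W ∧ finrank F ↥D = n := by
  induction n, h1 using Nat.le_induction with
  | base => exact ⟨U, le_rfl, hUW, rfl⟩
  | succ m hm ih =>
    obtain ⟨D, hD1, hD2, hD3⟩ := ih (by omega)
    have hne : D ≠ W := by
      rintro rfl
      omega
    obtain ⟨x, hxW, hxD⟩ := SetLike.exists_of_lt (lt_of_le_of_ne hD2 hne)
    refine ⟨D ⊔ Submodule.span F {x}, hD1.trans le_sup_left, sup_le hD2 ?_, ?_⟩
    · rw [Submodule.span_singleton_le_iff_mem]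
      exact hxW
    · rw [finrank_sup_span hxD, hD3]

theorem codim_inf {D U : Submodule F V} (hDU : D ≤ U) (h : finrank F ↥D + 1 = finrank F ↥U) (Y : Submodule F V) :
    finrank F ↥(D ⊓ Y) ≤ finrank F ↥(U ⊓ Y) ∧ finrank F ↥(U ⊓ Y) ≤ finrank F ↥(D ⊓ Y) + 1 := by
  refine ⟨Submodule.finrank_mono (inf_le_inf_right Y hDU), ?_⟩
  have h1 := Submodule.finrank_sup_add_finrank_inf_eq D (U ⊓ Y)
  have h2 : D ⊓ (U ⊓ Y) = D ⊓ Y := by rw [← inf_assoc, inf_eq_left.2 hDU]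
  have h3 : finrank F ↥(D ⊔ U ⊓ Y) ≤ finrank F ↥U := Submodule.finrank_mono (sup_le hDU inf_le_left)
  rw [h2] at h1
  omega

/-! ### types -/

variable (Φ : Pol F V)

/-- the type of a pair of subspaces -/
noncomputable def typ (A B : Submodule F V) : ℕ × ℕ := (finrank F ↥(A ⊓ B), finrank F ↥(A ⊓ Φ.perp B))

/-- `G` acts on the sets `Φ.X j` through automorphisms of the lattice of subspaces preserving `Φ.Orth` -/
structure Act (G : Type*) [Group G] [∀ j, MulAction G (Φ.X j)] : Prop where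
  ex : ∀ g : G, ∃ f : Submodule F V ≃o Submodule F V, (∀ U, finrank F ↥(f U) = finrank F ↥U) ∧
    (∀ U W, Φ.Orth (f U) (f W) ↔ Φ.Orth U W) ∧ ∀ (j : ℕ) (U : Φ.X j), (g • U).1 = f U.1

variable {Φ}

theorem perp_map {f : Submodule F V ≃o Submodule F V} (hf : ∀ U W, Φ.Orth (f U) (f W) ↔ Φ.Orth U W)
    (W : Submodule F V) : f (Φ.perp W) = Φ.perp (f W) := by
  apply le_antisymm
  · rw [← Φ.orth_iff_le_perp, hf, Φ.orth_iff_le_perp]
  · have h1 : f (f.symm (Φ.perp (f W))) = Φ.perp (f W) := f.apply_symm_apply _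
    rw [← h1]
    apply f.monotone
    rw [← Φ.orth_iff_le_perp, ← hf, h1, Φ.orth_iff_le_perp]

section action

variable {G : Type*} [Group G] [∀ j, MulAction G (Φ.X j)] (hA : Act Φ G)

include hA

theorem Act.typ_smul (g : G) {i j : ℕ} (U : Φ.X i) (W : Φ.X j) : typ Φ (g • U).1 (g • W).1 = typ Φ U.1 W.1 := by
  obtain ⟨f, h1, h2, h3⟩ := hA.ex g
  unfold typ
  rw [h3, h3, ← perp_map h2, ← f.map_inf, ← f.map_inf, h1, h1]

theorem Act.le_iff (g : G) {i j : ℕ} (U : Φ.X i) (W : Φ.X j) : (g • U).1 ≤ (g • W).1 ↔ U.1 ≤ W.1 := by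
  obtain ⟨f, h1, h2, h3⟩ := hA.ex g
  rw [h3, h3, f.le_iff_le]

end action

/-! ### invariant matrices -/

/-- invariant matrices -/
def GInv (G : Type*) [Group G] [∀ j, MulAction G (Φ.X j)] {i j : ℕ} (T : Matrix (Φ.X i) (Φ.X j) ℂ) : Prop :=
  ∀ (g : G) (U : Φ.X i) (W : Φ.X j), T (g • U) (g • W) = T U W

section ginv

variable {G : Type*} [Group G] [∀ j, MulAction G (Φ.X j)]

theorem GInv.transpose {i j : ℕ} {T : Matrix (Φ.X i) (Φ.X j) ℂ} (h : GInv G T) : GInv G Tᵀ := fun g U W => h g W U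

theorem GInv.mul {i j l : ℕ} {T : Matrix (Φ.X i) (Φ.X j) ℂ} {S : Matrix (Φ.X j) (Φ.X l) ℂ} (hT : GInv G T)
    (hS : GInv G S) : GInv G (T * S) := by
  intro g U W
  rw [Matrix.mul_apply, Matrix.mul_apply, ← Equiv.sum_comp (MulAction.toPerm g : Equiv.Perm (Φ.X j))]
  refine Finset.sum_congr rfl fun D _ => ?_
  rw [MulAction.toPerm_apply, hT, hS]

theorem GInv.one {i : ℕ} : GInv G (1 : Matrix (Φ.X i) (Φ.X i) ℂ) := by
  intro g U W
  rw [Matrix.one_apply, Matrix.one_apply]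
  congr 1
  exact propext ⟨fun h => MulAction.injective g h, fun h => by rw [h]⟩

theorem GInv.inc (hA : Act Φ G) (i : ℕ) : GInv G (Φ.inc ℂ i) := by
  intro g U W
  unfold Pol.inc
  congr 1
  exact propext (hA.le_iff g W U)

end ginv

/-- the product of `j` incidence matrices -/
noncomputable def up (Φ : Pol F V) (k : ℕ) : ∀ j : ℕ, Matrix (Φ.X (k + j)) (Φ.X k) ℂ
  | 0 => (1 : Matrix (Φ.X k) (Φ.X k) ℂ)
  | j + 1 => Φ.inc ℂ (k + j) * up Φ k j

theorem up_succ (k j : ℕ) : up Φ k (j + 1) = Φ.inc ℂ (k + j) * up Φ k j := rfl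

theorem up_inv {G : Type*} [Group G] [∀ j, MulAction G (Φ.X j)] (hA : Act Φ G) (k j : ℕ) : GInv G (up Φ k j) := by
  induction j with
  | zero => exact GInv.one
  | succ j ih => exact (GInv.inc hA (k + j)).mul ih

/-- the entries of `up` -/
theorem up_entry (k j : ℕ) : ∃ c : Φ.X (k + j) → Φ.X k → ℕ, (∀ W U, up Φ k j W U = c W U) ∧
    ∀ W U, c W U ≠ 0 ↔ U.1 ≤ W.1 := by
  classical
  induction j with
  | zero =>
    refine ⟨fun W U => if W = U then 1 else 0, fun W U => ?_, fun W U => ?_⟩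
    · show (1 : Matrix (Φ.X k) (Φ.X k) ℂ) W U = _
      rw [Matrix.one_apply]
      push_cast
      rfl
    · have h1 : (if W = U then 1 else 0 : ℕ) ≠ 0 ↔ W = U := by
        split_ifs with h
        · exact ⟨fun _ => h, fun _ => one_ne_zero⟩
        · exact ⟨fun h1 => absurd rfl h1, fun h1 => absurd h1 h⟩
      rw [h1]
      constructor
      · rintro rfl
        exact le_rfl
      · intro h2
        apply Subtype.ext
        symm
        exact Submodule.eq_of_le_of_finrank_eq h2 (U.2.2.trans W.2.2.symm)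
  | succ j ih =>
    obtain ⟨c, h1, h2⟩ := ih
    refine ⟨fun W U => ∑ D : Φ.X (k + j), (if D.1 ≤ W.1 then 1 else 0) * c D U, fun W U => ?_, fun W U => ?_⟩
    · rw [up_succ, Matrix.mul_apply]
      push_cast
      refine Finset.sum_congr rfl fun D _ => ?_
      rw [h1]
      unfold Pol.inc
      congr 1
    · rw [Ne, Finset.sum_eq_zero_iff]
      push Not
      constructor
      · rintro ⟨D, -, hD⟩
        have h3 : D.1 ≤ W.1 := by
          by_contra h3
          rw [if_neg h3, zero_mul] at hD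
          exact hD rfl
        have h4 : c D U ≠ 0 := fun h4 => hD (by rw [h4, mul_zero])
        exact ((h2 D U).1 h4).trans h3
      · intro h3
        obtain ⟨D, hD1, hD2, hD3⟩ := exists_between h3 (k + j) (by rw [U.2.2]; omega) (by rw [W.2.2]; omega)
        refine ⟨⟨D, W.2.1.mono hD2, hD3⟩, Finset.mem_univ _, ?_⟩
        rw [if_pos hD2, one_mul]
        exact (h2 _ U).2 hD1

/-- the entries of `upᵀ * up` -/
theorem gram_entry (k j : ℕ) (U U' : Φ.X k) : ((up Φ k j)ᵀ * up Φ k j) U U' ≠ 0 ↔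
    ∃ W : Φ.X (k + j), U.1 ≤ W.1 ∧ U'.1 ≤ W.1 := by
  obtain ⟨c, h1, h2⟩ := up_entry (Φ := Φ) k j
  have h3 : ((up Φ k j)ᵀ * up Φ k j) U U' = ((∑ W : Φ.X (k + j), c W U * c W U' : ℕ) : ℂ) := by
    rw [Matrix.mul_apply]
    push_cast
    refine Finset.sum_congr rfl fun W _ => ?_
    rw [Matrix.transpose_apply, h1, h1]
  rw [h3, Nat.cast_ne_zero, Ne, Finset.sum_eq_zero_iff]
  push Not
  constructor
  · rintro ⟨W, -, hW⟩
    have h4 := Nat.mul_ne_zero_iff.1 hW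
    exact ⟨W, (h2 W U).1 h4.1, (h2 W U').1 h4.2⟩
  · rintro ⟨W, h4, h5⟩
    exact ⟨W, Finset.mem_univ _, Nat.mul_ne_zero ((h2 W U).2 h4) ((h2 W U').2 h5)⟩

/-! ### the scalars -/

/-- the matrices acting as a scalar on the `a`-eigenspace of `adj` on `Prim` -/
def Sc (Φ : Pol F V) (k : ℕ) (a : ℂ) : Submodule ℂ (Matrix (Φ.X k) (Φ.X k) ℂ) where
  carrier := {T | ∃ c : ℂ, ∀ v ∈ Φ.Prim ℂ k, Φ.adj ℂ k *ᵥ v = a • v → T *ᵥ v = c • v}
  add_mem' := by
    rintro T S ⟨c, hc⟩ ⟨d, hd⟩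
    refine ⟨c + d, fun v hv h => ?_⟩
    rw [Matrix.add_mulVec, hc v hv h, hd v hv h, add_smul]
  zero_mem' := ⟨0, fun v _ _ => by rw [Matrix.zero_mulVec, zero_smul]⟩
  smul_mem' := by
    rintro r T ⟨c, hc⟩
    refine ⟨r * c, fun v hv h => ?_⟩
    rw [Matrix.smul_mulVec, hc v hv h, smul_smul]

open scoped Classical in
/-- the adjacency matrix of a type -/
noncomputable def Mt (Φ : Pol F V) (k : ℕ) (σ : ℕ × ℕ) : Matrix (Φ.X k) (Φ.X k) ℂ :=
  fun U U' => if typ Φ U'.1 U.1 = σ then 1 else 0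

theorem typ_le {k : ℕ} (U U' : Φ.X k) : (typ Φ U'.1 U.1).1 ≤ k ∧ (typ Φ U'.1 U.1).2 ≤ k := by
  constructor
  · have h := Submodule.finrank_mono (R := F) (inf_le_left : U'.1 ⊓ U.1 ≤ U'.1)
    rw [U'.2.2] at h
    exact h
  · have h := Submodule.finrank_mono (R := F) (inf_le_left : U'.1 ⊓ Φ.perp U.1 ≤ U'.1)
    rw [U'.2.2] at h
    exact h

/-- expansion of an invariant matrix -/
theorem expand {G : Type*} [Group G] [∀ j, MulAction G (Φ.X j)] {k : ℕ}
    (htr : ∀ U U2 W W2 : Φ.X k, typ Φ U.1 U2.1 = typ Φ W.1 W2.1 → ∃ g : G, g • U = W ∧ g • U2 = W2)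
    {T : Matrix (Φ.X k) (Φ.X k) ℂ} (hT : GInv G T) : ∃ c : ℕ × ℕ → ℂ,
      (∀ U U', T U U' = c (typ Φ U'.1 U.1)) ∧
      T = ∑ σ ∈ Finset.range (k + 1) ×ˢ Finset.range (k + 1), c σ • Mt Φ k σ := by
  classical
  let c : ℕ × ℕ → ℂ := fun σ => if h : ∃ Z : Φ.X k × Φ.X k, typ Φ Z.2.1 Z.1.1 = σ then T h.choose.1 h.choose.2 else 0
  have hc : ∀ U U', T U U' = c (typ Φ U'.1 U.1) := by
    intro U U'
    have h : ∃ Z : Φ.X k × Φ.X k, typ Φ Z.2.1 Z.1.1 = typ Φ U'.1 U.1 := ⟨(U, U'), rfl⟩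
    show _ = if h : ∃ Z : Φ.X k × Φ.X k, typ Φ Z.2.1 Z.1.1 = typ Φ U'.1 U.1 then T h.choose.1 h.choose.2 else 0
    rw [dif_pos h]
    obtain ⟨g, h1, h2⟩ := htr _ _ _ _ h.choose_spec
    have h3 := hT g h.choose.1 h.choose.2
    rw [h1, h2] at h3
    exact h3
  refine ⟨c, hc, ?_⟩
  ext U U'
  rw [hc, Matrix.sum_apply, Finset.sum_eq_single (typ Φ U'.1 U.1)]
  · rw [Matrix.smul_apply]
    unfold Mt
    rw [if_pos rfl, smul_eq_mul, mul_one]
  · intro σ _ hσ
    rw [Matrix.smul_apply]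
    unfold Mt
    rw [if_neg (Ne.symm hσ), smul_zero]
  · intro h
    exfalso
    apply h
    rw [Finset.mem_product, Finset.mem_range, Finset.mem_range]
    have := typ_le U U'
    exact ⟨by omega, by omega⟩

/-- one step -/
theorem step {G : Type*} [Group G] [∀ j, MulAction G (Φ.X j)] {k : ℕ}
    (htr : ∀ U U2 W W2 : Φ.X k, typ Φ U.1 U2.1 = typ Φ W.1 W2.1 → ∃ g : G, g • U = W ∧ g • U2 = W2) {a : ℂ}
    {T : Matrix (Φ.X k) (Φ.X k) ℂ} (hT : GInv G T) (hS : T ∈ Sc Φ k a) (σ : ℕ × ℕ)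
    (h1 : ∀ U U' : Φ.X k, typ Φ U'.1 U.1 = σ → T U U' ≠ 0)
    (h2 : ∀ U U' : Φ.X k, T U U' ≠ 0 → typ Φ U'.1 U.1 = σ ∨ Mt Φ k (typ Φ U'.1 U.1) ∈ Sc Φ k a) :
    Mt Φ k σ ∈ Sc Φ k a := by
  classical
  by_cases hσ : ∃ Z : Φ.X k × Φ.X k, typ Φ Z.2.1 Z.1.1 = σ
  swap
  · have h0 : Mt Φ k σ = 0 := by
      ext U U'
      unfold Mt
      rw [if_neg fun h => hσ ⟨(U, U'), h⟩]
      rfl
    rw [h0]
    exact Submodule.zero_mem _
  obtain ⟨⟨U, U'⟩, hZ⟩ := hσ
  change typ Φ U'.1 U.1 = σ at hZ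
  obtain ⟨c, hc, hsum⟩ := expand htr hT
  have hcσ : c σ ≠ 0 := by
    rw [← hZ, ← hc]
    exact h1 U U' hZ
  have hmem : σ ∈ Finset.range (k + 1) ×ˢ Finset.range (k + 1) := by
    rw [Finset.mem_product, Finset.mem_range, Finset.mem_range, ← hZ]
    have := typ_le U U'
    exact ⟨by omega, by omega⟩
  have hrest : ∑ τ ∈ (Finset.range (k + 1) ×ˢ Finset.range (k + 1)).erase σ, c τ • Mt Φ k τ ∈ Sc Φ k a := by
    refine Submodule.sum_mem _ fun τ hτ => ?_
    have hτσ := (Finset.mem_erase.1 hτ).1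
    by_cases hcτ : c τ = 0
    · rw [hcτ, zero_smul]
      exact Submodule.zero_mem _
    refine Submodule.smul_mem _ _ ?_
    by_cases hτ' : ∃ Z : Φ.X k × Φ.X k, typ Φ Z.2.1 Z.1.1 = τ
    · obtain ⟨⟨W, W'⟩, hW⟩ := hτ'
      have h3 : T W W' ≠ 0 := by
        rw [hc]
        rw [show typ Φ W'.1 W.1 = τ from hW]
        exact hcτ
      rcases h2 W W' h3 with h4 | h4
      · exact absurd (hW.symm.trans h4) hτσ
      · rwa [show typ Φ W'.1 W.1 = τ from hW] at h4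
    · have h0 : Mt Φ k τ = 0 := by
        ext W W'
        unfold Mt
        rw [if_neg fun h => hτ' ⟨(W, W'), h⟩]
        rfl
      rw [h0]
      exact Submodule.zero_mem _
  rw [← Finset.add_sum_erase _ _ hmem] at hsum
  have h4 : c σ • Mt Φ k σ ∈ Sc Φ k a := by
    have h5 : c σ • Mt Φ k σ = T - ∑ τ ∈ (Finset.range (k + 1) ×ˢ Finset.range (k + 1)).erase σ, c τ • Mt Φ k τ := by
      rw [eq_sub_iff_add_eq]
      exact hsum.symm
    rw [h5]
    exact Submodule.sub_mem _ hS hrest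
  have h5 := Submodule.smul_mem _ (c σ)⁻¹ h4
  rwa [smul_smul, inv_mul_cancel₀ hcσ, one_smul] at h5

end Cfsg.Agent.H623.BR
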