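import Cfsg.Agent.H623.BR.PolarA

/-!
# S4891, POLAR THEOREM, part (3) (helper623): every invariant matrix is a scalar on the eigenspaces of `adj` on `Prim`
-/

set_option autoImplicit false
set_option linter.unusedSectionVars false

open Module Matrix
open Cfsg.Agent.H2.Pol

namespace Cfsg.Agent.H623.BR

variable {F V : Type*} [Field F] [Finite F] [AddCommGroup V] [Module F V] [FiniteDimensional F V] {Φ : Pol F V}

variable {G : Type*} [Group G] [∀ j, MulAction G (Φ.X j)]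

/-- stage A: the types `(s, k)` -/
theorem stageA (hA : Act Φ G) {k : ℕ}
    (htr : ∀ U U2 W W2 : Φ.X k, typ Φ U.1 U2.1 = typ Φ W.1 W2.1 → ∃ g : G, g • U = W ∧ g • U2 = W2) {a : ℂ}
    (hφ : ∀ j, (up Φ k j)ᵀ * up Φ k j ∈ Sc Φ k a) : ∀ i : ℕ, ∀ s : ℕ, k ≤ s + i → Mt Φ k (s, k) ∈ Sc Φ k a := by
  classical
  intro i
  induction i with
  | zero =>
    intro s hs
    rcases Nat.lt_or_ge k s with h | h
    · have h0 : Mt Φ k (s, k) = 0 := by
        ext U U'
        unfold Mt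
        rw [if_neg]
        · rfl
        · intro h1
          have h2 := (typ_le U U').1
          rw [h1] at h2
          exact absurd h2 (by simpa using h)
      rw [h0]
      exact Submodule.zero_mem _
    · -- `s = k`
      obtain rfl : s = k := by omega
      refine step htr ((up_inv hA s 0).transpose.mul (up_inv hA s 0)) (hφ 0) (s, s) ?_ ?_
      · intro U U' hU
        rw [gram_entry]
        have h1 : finrank F ↥(U'.1 ⊓ U.1) = s := congrArg Prod.fst hU
        have h2 : U'.1 ⊓ U.1 = U'.1 := Submodule.eq_of_le_of_finrank_eq inf_le_left (h1.trans U'.2.2.symm)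
        exact ⟨U, le_rfl, inf_eq_left.1 h2⟩
      · intro U U' hU
        left
        rw [gram_entry] at hU
        obtain ⟨W, h1, h2⟩ := hU
        have h3 : U.1 = W.1 := Submodule.eq_of_le_of_finrank_eq h1 (U.2.2.trans W.2.2.symm)
        have h4 : U'.1 = W.1 := Submodule.eq_of_le_of_finrank_eq h2 (U'.2.2.trans W.2.2.symm)
        have h5 : U'.1 = U.1 := h4.trans h3.symm
        unfold typ
        rw [h5, inf_idem, U.2.2]
        have h6 : U.1 ≤ Φ.perp U.1 := Φ.orth_iff_le_perp.1 U.2.1.orth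
        rw [inf_eq_left.2 h6, U.2.2]
  | succ i ih =>
    intro s hs
    rcases Nat.lt_or_ge (s + i) k with h | h
    swap
    · exact ih s h
    -- `k = s + i + 1`
    obtain ⟨j, hj⟩ : ∃ j, j = i + 1 := ⟨_, rfl⟩
    have hk : k = s + j := by omega
    refine step htr ((up_inv hA k j).transpose.mul (up_inv hA k j)) (hφ j) (s, k) ?_ ?_
    · intro U U' hU
      rw [gram_entry]
      have h1 : finrank F ↥(U'.1 ⊓ U.1) = s := congrArg Prod.fst hU
      have h2 : finrank F ↥(U'.1 ⊓ Φ.perp U.1) = k := congrArg Prod.snd hU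
      have h3 : U'.1 ⊓ Φ.perp U.1 = U'.1 := Submodule.eq_of_le_of_finrank_eq inf_le_left (h2.trans U'.2.2.symm)
      have h4 : Φ.Orth U'.1 U.1 := Φ.orth_iff_le_perp.2 (inf_eq_left.1 h3)
      have h5 := Submodule.finrank_sup_add_finrank_inf_eq U'.1 U.1
      rw [h1, U.2.2, U'.2.2] at h5
      exact ⟨⟨U'.1 ⊔ U.1, U'.2.1.sup U.2.1 h4, by omega⟩, le_sup_right, le_sup_left⟩
    · intro U U' hU
      rw [gram_entry] at hU
      obtain ⟨W, h1, h2⟩ := hU
      have h3 : U'.1 ≤ Φ.perp U.1 := Φ.orth_iff_le_perp.1 (W.2.1.orth.mono h2 h1)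
      have h4 : finrank F ↥(U'.1 ⊓ Φ.perp U.1) = k := by rw [inf_eq_left.2 h3, U'.2.2]
      have h5 := Submodule.finrank_sup_add_finrank_inf_eq U'.1 U.1
      rw [U.2.2, U'.2.2] at h5
      have h6 : finrank F ↥(U'.1 ⊔ U.1) ≤ k + j := by
        rw [← W.2.2]
        exact Submodule.finrank_mono (sup_le h2 h1)
      set s' := finrank F ↥(U'.1 ⊓ U.1) with hs'
      have h7 : typ Φ U'.1 U.1 = (s', k) := by
        unfold typ
        rw [h4]
      rw [h7]
      rcases Nat.lt_or_ge s s' with h8 | h8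
      · right
        exact ih s' (by omega)
      · left
        rw [show s' = s by omega]

/-- stage B: the types `(s, t)`, `t < k` -/
theorem stageB (hA : Act Φ G) {k' : ℕ}
    (htr : ∀ U U2 W W2 : Φ.X (k' + 1), typ Φ U.1 U2.1 = typ Φ W.1 W2.1 → ∃ g : G, g • U = W ∧ g • U2 = W2) {a : ℂ}
    (hk : ∀ s, Mt Φ (k' + 1) (s, k' + 1) ∈ Sc Φ (k' + 1) a) : ∀ i : ℕ, ∀ t s : ℕ, k' + 1 ≤ t + i → t ≤ k' + 1 →
      Mt Φ (k' + 1) (s, t) ∈ Sc Φ (k' + 1) a := by
  classical
  intro i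
  induction i with
  | zero =>
    intro t s h1 h2
    obtain rfl : t = k' + 1 := by omega
    exact hk s
  | succ i ih =>
    intro t s h1 h2
    rcases Nat.lt_or_ge (t + i) (k' + 1) with h | h
    swap
    · exact ih t s h h2
    let N : Matrix (Φ.X (k' + 1)) (Φ.X k') ℂ := fun U D => if typ Φ D.1 U.1 = (s, t) then 1 else 0
    have hN : GInv G N := by
      intro g U D
      show (if typ Φ (g • D).1 (g • U).1 = (s, t) then (1 : ℂ) else 0) = if typ Φ D.1 U.1 = (s, t) then 1 else 0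
      rw [hA.typ_smul]
    have hentry : ∀ U U' : Φ.X (k' + 1), (N * (Φ.inc ℂ k')ᵀ) U U' ≠ 0 ↔
        ∃ D : Φ.X k', D.1 ≤ U'.1 ∧ typ Φ D.1 U.1 = (s, t) := by
      intro U U'
      have h3 : (N * (Φ.inc ℂ k')ᵀ) U U' =
          ((∑ D : Φ.X k', if D.1 ≤ U'.1 ∧ typ Φ D.1 U.1 = (s, t) then 1 else 0 : ℕ) : ℂ) := by
        rw [Matrix.mul_apply]
        push_cast
        refine Finset.sum_congr rfl fun D _ => ?_
        rw [Matrix.transpose_apply]
        show (if typ Φ D.1 U.1 = (s, t) then (1 : ℂ) else 0) * (if D.1 ≤ U'.1 then 1 else 0) = _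
        by_cases h4 : D.1 ≤ U'.1
        · by_cases h5 : typ Φ D.1 U.1 = (s, t)
          · rw [if_pos h4, if_pos h5, if_pos ⟨h4, h5⟩, one_mul]
          · rw [if_neg h5, zero_mul, if_neg (fun h6 : D.1 ≤ U'.1 ∧ typ Φ D.1 U.1 = (s, t) => h5 h6.2)]
        · rw [if_neg h4, mul_zero, if_neg (fun h6 : D.1 ≤ U'.1 ∧ typ Φ D.1 U.1 = (s, t) => h4 h6.1)]
      rw [h3, Nat.cast_ne_zero, Ne, Finset.sum_eq_zero_iff]
      push Not
      constructor
      · rintro ⟨D, -, hD⟩
        refine ⟨D, ?_⟩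
        by_contra h4
        rw [if_neg h4] at hD
        exact hD rfl
      · rintro ⟨D, hD⟩
        exact ⟨D, Finset.mem_univ _, by rw [if_pos hD]; exact one_ne_zero⟩
    have hS : N * (Φ.inc ℂ k')ᵀ ∈ Sc Φ (k' + 1) a := by
      refine ⟨0, fun v hv _ => ?_⟩
      have h3 : (Φ.inc ℂ k')ᵀ *ᵥ v = 0 := hv
      rw [← Matrix.mulVec_mulVec, h3, Matrix.mulVec_zero, zero_smul]
    refine step htr (hN.mul (GInv.inc hA k').transpose) hS (s, t) ?_ ?_
    · intro U U' hU
      rw [hentry]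
      have h4 : finrank F ↥(U'.1 ⊓ U.1) = s := congrArg Prod.fst hU
      have h5 : finrank F ↥(U'.1 ⊓ Φ.perp U.1) = t := congrArg Prod.snd hU
      obtain ⟨D, hD1, hD2, hD3⟩ := exists_between (inf_le_left : U'.1 ⊓ Φ.perp U.1 ≤ U'.1) k' (by omega)
        (by rw [U'.2.2]; omega)
      refine ⟨⟨D, U'.2.1.mono hD2, hD3⟩, hD2, ?_⟩
      have h6 : U.1 ≤ Φ.perp U.1 := Φ.orth_iff_le_perp.1 U.2.1.orth
      have h7 : D ⊓ U.1 = U'.1 ⊓ U.1 := by
        apply le_antisymm (inf_le_inf_right _ hD2)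
        exact le_inf ((inf_le_inf_left _ h6).trans hD1) inf_le_right
      have h8 : D ⊓ Φ.perp U.1 = U'.1 ⊓ Φ.perp U.1 :=
        le_antisymm (inf_le_inf_right _ hD2) (le_inf hD1 inf_le_right)
      show (finrank F ↥(D ⊓ U.1), finrank F ↥(D ⊓ Φ.perp U.1)) = (s, t)
      rw [h7, h8, h4, h5]
    · intro U U' hU
      rw [hentry] at hU
      obtain ⟨D, hD1, hD2⟩ := hU
      have hd : finrank F ↥D.1 + 1 = finrank F ↥U'.1 := by rw [D.2.2, U'.2.2]
      have h4 : finrank F ↥(D.1 ⊓ U.1) = s := congrArg Prod.fst hD2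
      have h5 : finrank F ↥(D.1 ⊓ Φ.perp U.1) = t := congrArg Prod.snd hD2
      have h6 := codim_inf hD1 hd U.1
      have h7 := codim_inf hD1 hd (Φ.perp U.1)
      rw [h4] at h6
      rw [h5] at h7
      set s' := finrank F ↥(U'.1 ⊓ U.1) with hs'
      set t' := finrank F ↥(U'.1 ⊓ Φ.perp U.1) with ht'
      have h8 : typ Φ U'.1 U.1 = (s', t') := rfl
      have h9 : t' ≤ k' + 1 := by
        have := (typ_le U U').2
        rwa [h8] at this
      rw [h8]
      rcases Nat.lt_or_ge t t' with h10 | h10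
      · right
        exact ih t' s' (by omega) h9
      · left
        have h11 : t' = t := by omega
        have h12 : D.1 ⊓ Φ.perp U.1 = U'.1 ⊓ Φ.perp U.1 :=
          Submodule.eq_of_le_of_finrank_eq (inf_le_inf_right _ hD1) (by rw [h5, ← ht', h11])
        have h13 : U.1 ≤ Φ.perp U.1 := Φ.orth_iff_le_perp.1 U.2.1.orth
        have h14 : U'.1 ⊓ U.1 ≤ D.1 := by
          refine (inf_le_inf_left _ h13).trans ?_
          rw [← h12]
          exact inf_le_left
        have h15 : D.1 ⊓ U.1 = U'.1 ⊓ U.1 :=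
          le_antisymm (inf_le_inf_right _ hD1) (le_inf h14 inf_le_right)
        have h16 : s' = s := by rw [hs', ← h15, h4]
        rw [h11, h16]

/-- **every invariant matrix is a scalar on the eigenspaces of `adj` on `Prim`** -/
theorem scalar (hA : Act Φ G) {k : ℕ}
    (htr : ∀ U U2 W W2 : Φ.X k, typ Φ U.1 U2.1 = typ Φ W.1 W2.1 → ∃ g : G, g • U = W ∧ g • U2 = W2) {a : ℂ}
    (hφ : ∀ j, (up Φ k j)ᵀ * up Φ k j ∈ Sc Φ k a) {T : Matrix (Φ.X k) (Φ.X k) ℂ} (hT : GInv G T) :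
    T ∈ Sc Φ k a := by
  classical
  have hMk : ∀ s, Mt Φ k (s, k) ∈ Sc Φ k a := fun s => stageA hA htr hφ k s (by omega)
  have hM : ∀ s t, t ≤ k → Mt Φ k (s, t) ∈ Sc Φ k a := by
    intro s t ht
    cases k with
    | zero =>
      obtain rfl : t = 0 := by omega
      exact hMk s
    | succ k' => exact stageB hA htr hMk (k' + 1) t s (by omega) ht
  obtain ⟨c, -, hsum⟩ := expand htr hT
  rw [hsum]
  refine Submodule.sum_mem _ fun σ hσ => Submodule.smul_mem _ _ ?_
  rw [Finset.mem_product, Finset.mem_range, Finset.mem_range] at hσ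
  exact hM σ.1 σ.2 (by omega)

end Cfsg.Agent.H623.BR
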