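import Cfsg.Agent.H623.BR.PolarB
import Cfsg.Agent.Blocks.Orthogonality
import Cfsg.Agent.Characters.GaloisIrr
import Cfsg.Agent.Characters.GaloisBasic
import Cfsg.Agent.Characters.Core

/-!
# S4891, POLAR THEOREM, part (3) (helper623): the constituents of the permutation characters are rational

* `Em χ j` : the matrix of the central idempotent of `χ` on the functions on `Φ.X j`;
* `fixed` : every irreducible constituent of the permutation character on `Φ.X k` is fixed by all automorphisms of `ℂ`,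
  provided that the eigenvalues of `adj` on `Prim` are rational and `upᵀ * up` is a scalar on its eigenspaces.
-/

set_option autoImplicit false
set_option linter.unusedSectionVars false

open Module Matrix Cfsg
open Cfsg.Agent.H2.Pol
open Cfsg.Agent.Characters.Core
open scoped ComplexConjugate

namespace Cfsg.Agent.H623.BR

variable {F V : Type*} [Field F] [Finite F] [AddCommGroup V] [Module F V] [FiniteDimensional F V] {Φ : Pol F V}

section idem

variable {G : Type*} [Group G] [Fintype G] [∀ j, MulAction G (Φ.X j)]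

/-- the matrix of the central idempotent of `χ` -/
noncomputable def Em (Φ : Pol F V) {G : Type*} [Group G] [Fintype G] [∀ j, MulAction G (Φ.X j)] (χ : G → ℂ) (j : ℕ) :
    Matrix (Φ.X j) (Φ.X j) ℂ :=
  fun U U' => (χ 1 / (Nat.card G : ℂ)) * ∑ g : G, if g • U' = U then χ g⁻¹ else 0

theorem Em_inv {χ : G → ℂ} (hχ : IsClassFunction G χ) (j : ℕ) : GInv G (Em Φ χ j) := by
  intro h U U'
  unfold Em
  congr 1
  rw [← Equiv.sum_comp (MulAut.conj h).toEquiv]
  refine Finset.sum_congr rfl fun g _ => ?_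
  have e1 : ((MulAut.conj h).toEquiv g : G) = h * g * h⁻¹ := rfl
  rw [e1]
  have e2 : (h * g * h⁻¹)⁻¹ = h * g⁻¹ * h⁻¹ := by group
  rw [e2, hχ g⁻¹ h, mul_smul, mul_smul, inv_smul_smul]
  congr 1
  exact propext ⟨fun h1 => MulAction.injective h h1, fun h1 => by rw [h1]⟩

/-- invariant matrices commute with the idempotents -/
theorem Em_comm {χ : G → ℂ} {i j : ℕ} {T : Matrix (Φ.X i) (Φ.X j) ℂ} (hT : GInv G T) :
    T * Em Φ χ j = Em Φ χ i * T := by
  ext U W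
  rw [Matrix.mul_apply, Matrix.mul_apply]
  unfold Em
  have e1 : ∑ D : Φ.X j, T U D * (χ 1 / (Nat.card G : ℂ) * ∑ g : G, if g • W = D then χ g⁻¹ else 0) =
      χ 1 / (Nat.card G : ℂ) * ∑ g : G, T U (g • W) * χ g⁻¹ := by
    rw [Finset.mul_sum]
    simp_rw [Finset.mul_sum]
    rw [Finset.sum_comm]
    refine Finset.sum_congr rfl fun g _ => ?_
    rw [Finset.sum_eq_single (g • W)]
    · rw [if_pos rfl]
      ring
    · intro D _ hD
      rw [if_neg (Ne.symm hD)]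
      ring
    · intro h
      exact absurd (Finset.mem_univ _) h
  have e2 : ∑ D : Φ.X i, (χ 1 / (Nat.card G : ℂ) * ∑ g : G, if g • D = U then χ g⁻¹ else 0) * T D W =
      χ 1 / (Nat.card G : ℂ) * ∑ g : G, T U (g • W) * χ g⁻¹ := by
    rw [Finset.mul_sum]
    simp_rw [Finset.mul_sum, Finset.sum_mul]
    rw [Finset.sum_comm]
    refine Finset.sum_congr rfl fun g _ => ?_
    rw [Finset.sum_eq_single (g⁻¹ • U)]
    · rw [if_pos (smul_inv_smul g U)]
      have h1 := hT g (g⁻¹ • U) W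
      rw [smul_inv_smul] at h1
      rw [h1]
      ring
    · intro D _ hD
      rw [if_neg]
      · ring
      · rintro rfl
        exact hD (inv_smul_smul g D).symm
    · intro h
      exact absurd (Finset.mem_univ _) h
  rw [e1, e2]

/-- products of the idempotents -/
theorem Em_mul [DecidableEq (IrrCharacter G)] (χ ψ : IrrCharacter G) (j : ℕ) :
    Em Φ (χ : G → ℂ) j * Em Φ (ψ : G → ℂ) j = if χ = ψ then Em Φ (χ : G → ℂ) j else 0 := by
  classical
  have hG : (Nat.card G : ℂ) ≠ 0 := Nat.cast_ne_zero.2 Nat.card_pos.ne'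
  have hχ1 : (χ : G → ℂ) 1 ≠ 0 := isIrr_apply_one_ne_zero χ.2
  ext U W
  rw [Matrix.mul_apply]
  -- the convolution
  have hconv : ∀ y : G, ∑ g : G, (χ : G → ℂ) g⁻¹ * (ψ : G → ℂ) (y⁻¹ * g) =
      if χ = ψ then (Nat.card G : ℂ) * (χ : G → ℂ) y⁻¹ / (χ : G → ℂ) 1 else 0 := by
    intro y
    rw [← Cfsg.Agent.Blocks.Orthogonality.sum_irr_mul_irr χ ψ y⁻¹, ← Equiv.sum_comp (Equiv.inv G)]
    refine Finset.sum_congr rfl fun g _ => ?_
    show (χ : G → ℂ) g⁻¹⁻¹ * (ψ : G → ℂ) (y⁻¹ * g⁻¹) = _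
    rw [inv_inv]
    congr 1
    have h1 := isIrr_isClassFunction ψ.2 (g⁻¹ * y⁻¹) g
    rw [← h1]
    congr 1
    group
  set c1 : ℂ := (χ : G → ℂ) 1 / (Nat.card G : ℂ) with hc1
  set c2 : ℂ := (ψ : G → ℂ) 1 / (Nat.card G : ℂ) with hc2
  have e1 : ∑ D : Φ.X j, Em Φ (χ : G → ℂ) j U D * Em Φ (ψ : G → ℂ) j D W =
      c1 * c2 * ∑ y : G, if y • W = U then ∑ g : G, (χ : G → ℂ) g⁻¹ * (ψ : G → ℂ) (y⁻¹ * g) else 0 := by
    have e2 : ∀ D : Φ.X j, Em Φ (χ : G → ℂ) j U D * Em Φ (ψ : G → ℂ) j D W =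
        ∑ h : G, c1 * c2 * ((∑ g : G, if g • D = U then (χ : G → ℂ) g⁻¹ else 0) *
          (if h • W = D then (ψ : G → ℂ) h⁻¹ else 0)) := by
      intro D
      unfold Em
      rw [← Finset.mul_sum, ← Finset.mul_sum, ← hc1, ← hc2]
      ring
    rw [Finset.sum_congr rfl fun D _ => e2 D, Finset.sum_comm]
    have e3 : ∀ h : G, ∑ D : Φ.X j, c1 * c2 * ((∑ g : G, if g • D = U then (χ : G → ℂ) g⁻¹ else 0) *
          (if h • W = D then (ψ : G → ℂ) h⁻¹ else 0)) =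
        c1 * c2 * ∑ g : G, if (g * h) • W = U then (χ : G → ℂ) g⁻¹ * (ψ : G → ℂ) h⁻¹ else 0 := by
      intro h
      rw [Finset.sum_eq_single (h • W)]
      · rw [if_pos rfl, Finset.sum_mul]
        congr 1
        refine Finset.sum_congr rfl fun g _ => ?_
        rw [mul_smul]
        split_ifs
        · rfl
        · rw [zero_mul]
      · intro D _ hD
        rw [if_neg (Ne.symm hD), mul_zero, mul_zero]
      · intro h1
        exact absurd (Finset.mem_univ _) h1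
    rw [Finset.sum_congr rfl fun h _ => e3 h, ← Finset.mul_sum, Finset.sum_comm]
    congr 1
    have e4 : ∀ g : G, ∑ h : G, (if (g * h) • W = U then (χ : G → ℂ) g⁻¹ * (ψ : G → ℂ) h⁻¹ else 0) =
        ∑ y : G, if y • W = U then (χ : G → ℂ) g⁻¹ * (ψ : G → ℂ) (y⁻¹ * g) else 0 := by
      intro g
      rw [← Equiv.sum_comp (Equiv.mulLeft g⁻¹)]
      refine Finset.sum_congr rfl fun y _ => ?_
      show (if (g * (g⁻¹ * y)) • W = U then (χ : G → ℂ) g⁻¹ * (ψ : G → ℂ) (g⁻¹ * y)⁻¹ else 0) = _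
      rw [mul_inv_cancel_left, _root_.mul_inv_rev, inv_inv]
    rw [Finset.sum_congr rfl fun g _ => e4 g, Finset.sum_comm]
    refine Finset.sum_congr rfl fun y _ => ?_
    split_ifs
    · rfl
    · rw [Finset.sum_const_zero]
  rw [e1]
  simp_rw [hconv]
  split_ifs with h
  · subst h
    unfold Em
    rw [mul_assoc, ← hc1]
    congr 1
    rw [Finset.mul_sum]
    refine Finset.sum_congr rfl fun y _ => ?_
    split_ifs
    · rw [hc2]
      field_simp
    · rw [mul_zero]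
  · rw [Matrix.zero_apply]
    simp

/-- the trace -/
theorem Em_ne_zero [Finite F] {χ : G → ℂ} (hχ : IsIrrCharacter G χ) (j : ℕ)
    (h : classInner (fun g : G => (Nat.card (MulAction.fixedBy (Φ.X j) g) : ℂ)) χ ≠ 0) : Em Φ χ j ≠ 0 := by
  classical
  intro h0
  apply h
  have h1 : ∑ U : Φ.X j, Em Φ χ j U U = 0 := by
    rw [h0]
    simp
  have h2 : ∑ U : Φ.X j, Em Φ χ j U U =
      χ 1 / (Nat.card G : ℂ) * ∑ g : G, (Nat.card (MulAction.fixedBy (Φ.X j) g) : ℂ) * conj (χ g) := by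
    unfold Em
    rw [← Finset.mul_sum, Finset.sum_comm]
    congr 1
    refine Finset.sum_congr rfl fun g _ => ?_
    rw [← Finset.sum_filter, Finset.sum_const, nsmul_eq_mul, Cfsg.Agent.Blocks.Orthogonality.irr_apply_inv hχ]
    congr 2
    rw [Nat.card_eq_fintype_card, Fintype.card_subtype]
    rfl
  rw [h2] at h1
  have hχ1 : χ 1 ≠ 0 := isIrr_apply_one_ne_zero hχ
  have hG : (Nat.card G : ℂ) ≠ 0 := Nat.cast_ne_zero.2 Nat.card_pos.ne'
  rcases mul_eq_zero.1 h1 with h3 | h3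
  · exact absurd h3 (div_ne_zero hχ1 hG)
  · rw [classInner_def, h3, mul_zero]

/-- Galois action -/
theorem Em_map (σ : ℂ ≃+* ℂ) (χ : G → ℂ) (j : ℕ) (U U' : Φ.X j) :
    σ (Em Φ χ j U U') = Em Φ (fun g => σ (χ g)) j U U' := by
  unfold Em
  rw [map_mul, map_div₀, map_natCast, map_sum]
  congr 1
  refine Finset.sum_congr rfl fun g _ => ?_
  split_ifs
  · rfl
  · exact map_zero σ

theorem mulVec_map (σ : ℂ ≃+* ℂ) {i j : ℕ} (T : Matrix (Φ.X i) (Φ.X j) ℂ) (v : Φ.X j → ℂ) (U : Φ.X i) :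
    σ ((T *ᵥ v) U) = ((fun U W => σ (T U W)) *ᵥ fun W => σ (v W)) U := by
  show σ (∑ W, T U W * v W) = ∑ W, σ (T U W) * σ (v W)
  rw [map_sum]
  exact Finset.sum_congr rfl fun W _ => map_mul σ _ _

theorem adj_inv (hA : Act Φ G) (k : ℕ) : GInv G (Φ.adj ℂ k) := by
  intro g U U'
  obtain ⟨f, h1, h2, h3⟩ := hA.ex g
  unfold Pol.adj
  congr 1
  rw [h3, h3, ← f.map_inf, h1, h2]

theorem adj_map (σ : ℂ ≃+* ℂ) (k : ℕ) (U U' : Φ.X k) : σ (Φ.adj ℂ k U U') = Φ.adj ℂ k U U' := by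
  unfold Pol.adj
  split_ifs
  · exact map_one σ
  · exact map_zero σ

theorem inc_map (σ : ℂ ≃+* ℂ) (k : ℕ) (U : Φ.X (k + 1)) (U' : Φ.X k) : σ (Φ.inc ℂ k U U') = Φ.inc ℂ k U U' := by
  unfold Pol.inc
  split_ifs
  · exact map_one σ
  · exact map_zero σ

/-- `Prim` is Galois stable -/
theorem prim_map (σ : ℂ ≃+* ℂ) {k : ℕ} {v : Φ.X k → ℂ} (hv : v ∈ Φ.Prim ℂ k) : (fun W => σ (v W)) ∈ Φ.Prim ℂ k := by
  cases k with
  | zero => exact Submodule.mem_top
  | succ i =>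
    have h1 : (Φ.inc ℂ i)ᵀ *ᵥ v = 0 := hv
    show (Φ.inc ℂ i)ᵀ *ᵥ (fun W => σ (v W)) = 0
    funext U
    have h2 := mulVec_map σ (Φ.inc ℂ i)ᵀ v U
    have h3 : (fun U W => σ ((Φ.inc ℂ i)ᵀ U W)) = (Φ.inc ℂ i)ᵀ := by
      funext U W
      exact inc_map σ i W U
    rw [h1, Pi.zero_apply, map_zero, h3] at h2
    rw [Pi.zero_apply, h2]

/-- **every irreducible constituent is Galois invariant** -/
theorem fixed (hA : Act Φ G) {k : ℕ}
    (htr : ∀ j ≤ k, ∀ U U2 W W2 : Φ.X j, typ Φ U.1 U2.1 = typ Φ W.1 W2.1 → ∃ g : G, g • U = W ∧ g • U2 = W2)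
    (hrat : ∀ (j : ℕ) (a : ℂ) (v : Φ.X j → ℂ), v ∈ Φ.Prim ℂ j → v ≠ 0 → Φ.adj ℂ j *ᵥ v = a • v → ∃ r : ℚ, a = r)
    (hφ : ∀ (j : ℕ) (a : ℂ) (i : ℕ), (up Φ j i)ᵀ * up Φ j i ∈ Sc Φ j a)
    (χ : IrrCharacter G) (h : Em Φ (χ : G → ℂ) k ≠ 0) (σ : ℂ ≃+* ℂ) (g : G) : σ ((χ : G → ℂ) g) = (χ : G → ℂ) g := by
  classical
  -- the minimal level
  have hex : ∃ j, Em Φ (χ : G → ℂ) j ≠ 0 := ⟨k, h⟩
  set j := Nat.find hex with hj
  have hj1 : Em Φ (χ : G → ℂ) j ≠ 0 := Nat.find_spec hex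
  have hjk : j ≤ k := Nat.find_min' hex h
  have hj2 : ∀ i < j, Em Φ (χ : G → ℂ) i = 0 := fun i hi => by
    by_contra h1
    exact Nat.find_min hex hi h1
  clear_value j
  let ψ : IrrCharacter G := ⟨fun g => σ ((χ : G → ℂ) g), Cfsg.Agent.Characters.GaloisIrr.isIrr_map σ χ.2⟩
  by_cases hψ : χ = ψ
  · exact (congrFun (congrArg Subtype.val hψ) g).symm
  exfalso
  -- the eigenvector
  let E := Em Φ (χ : G → ℂ) j
  have hEE : E * E = E := by
    have h1 := Em_mul (Φ := Φ) χ χ j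
    rwa [if_pos rfl] at h1
  have hEψ : E * Em Φ (ψ : G → ℂ) j = 0 := by
    have h1 := Em_mul (Φ := Φ) χ ψ j
    rwa [if_neg hψ] at h1
  have hprim : ∀ w : Φ.X j → ℂ, E *ᵥ w ∈ Φ.Prim ℂ j := by
    intro w
    cases j with
    | zero => exact Submodule.mem_top
    | succ i =>
      show (Φ.inc ℂ i)ᵀ *ᵥ (E *ᵥ w) = 0
      rw [Matrix.mulVec_mulVec, Em_comm (GInv.inc hA i).transpose, hj2 i (Nat.lt_succ_self i), Matrix.zero_mul,
        Matrix.zero_mulVec]
  let R : Submodule ℂ (Φ.X j → ℂ) := LinearMap.range E.mulVecLin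
  have hR : ∀ v ∈ R, E *ᵥ v = v := by
    rintro _ ⟨w, rfl⟩
    rw [Matrix.mulVecLin_apply, Matrix.mulVec_mulVec, hEE]
  have hRP : ∀ v ∈ R, v ∈ Φ.Prim ℂ j := by
    rintro _ ⟨w, rfl⟩
    exact hprim w
  have hRA : ∀ v ∈ R, (Φ.adj ℂ j).mulVecLin v ∈ R := by
    rintro _ ⟨w, rfl⟩
    refine ⟨Φ.adj ℂ j *ᵥ w, ?_⟩
    rw [Matrix.mulVecLin_apply, Matrix.mulVecLin_apply, Matrix.mulVecLin_apply, Matrix.mulVec_mulVec,
      Matrix.mulVec_mulVec, Em_comm (adj_inv hA j)]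
  have hRne : Nontrivial R := by
    rw [Submodule.nontrivial_iff_ne_bot]
    intro h1
    apply hj1
    have h2 : E.mulVecLin = 0 := LinearMap.range_eq_bot.1 h1
    have h3 : Matrix.mulVecLin E = Matrix.mulVecLin 0 := by rw [h2, Matrix.mulVecLin_zero]
    exact Matrix.ext_of_mulVec_single fun i => LinearMap.congr_fun h3 (Pi.single i 1)
  obtain ⟨a, ha⟩ := Module.End.exists_eigenvalue ((Φ.adj ℂ j).mulVecLin.restrict hRA)
  obtain ⟨⟨v, hvR⟩, hv⟩ := ha.exists_hasEigenvector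
  have hv0 : v ≠ 0 := fun h1 => hv.2 (Subtype.ext h1)
  have hva : Φ.adj ℂ j *ᵥ v = a • v := by
    have h1 := Module.End.mem_eigenspace_iff.1 hv.1
    exact congrArg Subtype.val h1
  obtain ⟨r, hr⟩ := hrat j a v (hRP v hvR) hv0 hva
  -- its Galois conjugate
  let v' : Φ.X j → ℂ := fun W => σ (v W)
  have hv'P : v' ∈ Φ.Prim ℂ j := prim_map σ (hRP v hvR)
  have hv'0 : v' ≠ 0 := by
    intro h1
    apply hv0
    funext W
    have h2 := congrFun h1 W
    exact (map_eq_zero σ).1 h2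
  have hv'a : Φ.adj ℂ j *ᵥ v' = a • v' := by
    funext U
    have h2 := mulVec_map σ (Φ.adj ℂ j) v U
    have h3 : (fun U W => σ (Φ.adj ℂ j U W)) = Φ.adj ℂ j := by
      funext U W
      exact adj_map σ j U W
    rw [hva, Pi.smul_apply, smul_eq_mul, map_mul, hr, map_ratCast, h3] at h2
    rw [Pi.smul_apply, smul_eq_mul, hr]
    exact h2.symm
  -- the scalar
  obtain ⟨c, hc⟩ := scalar hA (htr j hjk) (hφ j a) (Em_inv (isIrr_isClassFunction χ.2) j)
  have h1 := hc v (hRP v hvR) hva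
  have h2 := hc v' hv'P hv'a
  have h3 : c = 1 := by
    change E *ᵥ v = c • v at h1
    rw [hR v hvR] at h1
    obtain ⟨W, hW⟩ := Function.ne_iff.1 hv0
    have h4 := congrFun h1 W
    rw [Pi.smul_apply, smul_eq_mul] at h4
    have h5 : (c - 1) * v W = 0 := by linear_combination -h4
    rcases mul_eq_zero.1 h5 with h6 | h6
    · exact sub_eq_zero.1 h6
    · exact absurd h6 hW
  -- `v'` is in the range of the idempotent of `ψ`
  obtain ⟨w, hw⟩ := hvR
  have h4 : v' = Em Φ (ψ : G → ℂ) j *ᵥ fun W => σ (w W) := by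
    funext U
    have h5 := mulVec_map σ E w U
    rw [show E *ᵥ w = v from hw] at h5
    have h6 : (fun U W => σ (E U W)) = Em Φ (ψ : G → ℂ) j := by
      funext U W
      exact Em_map σ _ j U W
    rw [h6] at h5
    exact h5
  have h5 : E *ᵥ v' = 0 := by
    rw [h4, Matrix.mulVec_mulVec, hEψ, Matrix.zero_mulVec]
  change E *ᵥ v' = c • v' at h2
  rw [h5, h3, one_smul] at h2
  exact hv'0 h2.symm

/-- **every irreducible constituent of the permutation character is rational** -/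
theorem rational_of (hA : Act Φ G) {k : ℕ}
    (htr : ∀ j ≤ k, ∀ U U2 W W2 : Φ.X j, typ Φ U.1 U2.1 = typ Φ W.1 W2.1 → ∃ g : G, g • U = W ∧ g • U2 = W2)
    (hrat : ∀ (j : ℕ) (a : ℂ) (v : Φ.X j → ℂ), v ∈ Φ.Prim ℂ j → v ≠ 0 → Φ.adj ℂ j *ᵥ v = a • v → ∃ r : ℚ, a = r)
    (hφ : ∀ (j : ℕ) (a : ℂ) (i : ℕ), (up Φ j i)ᵀ * up Φ j i ∈ Sc Φ j a)
    (χ : IrrCharacter G)
    (h : classInner (fun g : G => (Nat.card (MulAction.fixedBy (Φ.X k) g) : ℂ)) (χ : G → ℂ) ≠ 0) (g : G) :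
    ∃ r : ℚ, (χ : G → ℂ) g = r := by
  apply Cfsg.Agent.Characters.GaloisBasic.exists_rat_of_forall_ringEquiv
  · exact (Cfsg.Agent.Characters.GaloisBasic.isIntegral_apply (isIrr_isCharacter χ.2) g).tower_top
  · intro σ
    exact fixed hA htr hrat hφ χ (Em_ne_zero χ.2 k h) σ g

end idem

end Cfsg.Agent.H623.BR
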